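import Groth.Agent.BELib.Depth

/-!
# The local step of the criterion of Buchsbaum and Eisenbud
-/

set_option autoImplicit false
set_option linter.style.haveILetI false

universe u

open IsLocalRing RingTheory.Sequence CommAlgDim Matrix
open Groth.Agent.BELib

namespace BEStepLib

theorem map_mulVecLin {S L : Type u} [CommRing S] [CommRing L] (g : S →+* L) {m n : ℕ}
    (φ : Matrix (Fin m) (Fin n) S) (v : Fin n → S) :
    (φ.map g).mulVecLin (g ∘ v) = g ∘ φ.mulVecLin v := by
  funext i
  simp only [Matrix.mulVecLin_apply, Function.comp_apply, RingHom.map_mulVec]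

variable {R : Type u} [CommRing R] [IsLocalRing R] [IsNoetherianRing R]

/-- Off the closed point, kernel vectors are in the image up to a scalar. -/
theorem exists_smul_mem {m n k : ℕ} (a : Matrix (Fin m) (Fin n) R) (b : Matrix (Fin n) (Fin k) R)
    (p : Ideal R) [p.IsPrime]
    (h : LinearMap.ker (a.map (algebraMap R (Localization.AtPrime p))).mulVecLin =
      LinearMap.range (b.map (algebraMap R (Localization.AtPrime p))).mulVecLin)
    (v : Fin n → R) (hv : a.mulVecLin v = 0) :
    ∃ s : R, s ∉ p ∧ s • v ∈ LinearMap.range b.mulVecLin := by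
  let g := algebraMap R (Localization.AtPrime p)
  have hk : g ∘ v ∈ LinearMap.ker (a.map g).mulVecLin := by
    rw [LinearMap.mem_ker, map_mulVecLin, hv]
    funext i
    exact map_zero g
  rw [h] at hk
  obtain ⟨w, hw⟩ := hk
  obtain ⟨t, ht⟩ := IsLocalization.exist_integer_multiples_of_finite p.primeCompl w
  choose w' hw' using ht
  have key : g ∘ b.mulVecLin w' = g ∘ ((t : R) • v) := by
    rw [← map_mulVecLin, show g ∘ w' = (t : R) • w from funext hw', LinearMap.map_smul_of_tower, hw]
    funext i
    simp only [Pi.smul_apply, Function.comp_apply, Algebra.smul_def, map_mul, Algebra.algebraMap_self, Pi.mul_apply, Pi.algebraMap_apply,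
      RingHom.id_apply, g]
  have hc : ∀ i, ∃ c : p.primeCompl, (c : R) * b.mulVecLin w' i = (c : R) * ((t : R) • v) i := fun i =>
    (IsLocalization.eq_iff_exists p.primeCompl (Localization.AtPrime p)).mp (congr_fun key i)
  choose c hc using hc
  refine ⟨(∏ i, (c i : R)) * t, p.primeCompl.mul_mem (Submonoid.prod_mem _ fun i _ => (c i).2) t.2,
    (∏ i, (c i : R)) • w', ?_⟩
  rw [map_smul]
  funext i
  obtain ⟨d, hd⟩ := Finset.dvd_prod_of_mem (fun i => (c i : R)) (Finset.mem_univ i)
  have hci := hc i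
  simp only [Pi.smul_apply, smul_eq_mul] at hci ⊢
  rw [hd, mul_assoc ((c i : R) * d), mul_comm (c i : R) d, mul_assoc, hci, mul_assoc]

/-- Exactness on the punctured spectrum and depth one of the previous cokernel give exactness. -/
theorem step {m n k : ℕ} (a : Matrix (Fin m) (Fin n) R) (b : Matrix (Fin n) (Fin k) R) (hab : a * b = 0)
    (hloc : ∀ (p : Ideal R) [p.IsPrime], p ≠ maximalIdeal R →
      LinearMap.ker (a.map (algebraMap R (Localization.AtPrime p))).mulVecLin =
        LinearMap.range (b.map (algebraMap R (Localization.AtPrime p))).mulVecLin)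
    {d : ℕ} (hC : HasSeqIn (maximalIdeal R) ((Fin n → R) ⧸ LinearMap.range b.mulVecLin) (d + 1))
    (hR : HasSeqIn (maximalIdeal R) R d) :
    LinearMap.ker a.mulVecLin = LinearMap.range b.mulVecLin ∧
      HasSeqIn (maximalIdeal R) ((Fin m → R) ⧸ LinearMap.range a.mulVecLin) d := by
  have hle : LinearMap.range b.mulVecLin ≤ LinearMap.ker a.mulVecLin := by
    rintro _ ⟨w, rfl⟩
    rw [LinearMap.mem_ker, Matrix.mulVecLin_apply, Matrix.mulVecLin_apply, Matrix.mulVec_mulVec, hab,
      Matrix.zero_mulVec]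
  have hge : LinearMap.ker a.mulVecLin ≤ LinearMap.range b.mulVecLin := by
    intro v hv
    obtain ⟨rs, hl, hm, hr⟩ := hC.mono (Nat.le_add_left 1 d)
    obtain ⟨x, rfl⟩ := List.length_eq_one_iff.1 hl
    rw [isWeaklyRegular_singleton_iff] at hr
    let K : Ideal R := (LinearMap.range b.mulVecLin).comap (LinearMap.toSpanSingleton R (Fin n → R) v)
    have hx : x ∈ K.radical := by
      rw [Ideal.radical_eq_sInf, Ideal.mem_sInf]
      rintro P ⟨hKP, hP⟩
      by_cases hPm : P = maximalIdeal R
      · rw [hPm]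
        exact hm x (List.mem_singleton_self x)
      · obtain ⟨s, hsP, hs⟩ := exists_smul_mem a b P (hloc P hPm) v (LinearMap.mem_ker.mp hv)
        exact absurd (hKP (show s ∈ K from hs)) hsP
    obtain ⟨N, hN⟩ := hx
    have h0 : x ^ N • (Submodule.Quotient.mk v : (Fin n → R) ⧸ LinearMap.range b.mulVecLin) = x ^ N • 0 := by
      rw [smul_zero, ← Submodule.Quotient.mk_smul, Submodule.Quotient.mk_eq_zero]
      exact hN
    exact (Submodule.Quotient.mk_eq_zero _).mp (hr.pow N h0)
  refine ⟨le_antisymm hge hle, ?_⟩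
  let ι : ((Fin n → R) ⧸ LinearMap.range b.mulVecLin) →ₗ[R] (Fin m → R) := Submodule.liftQ _ a.mulVecLin hle
  refine hasSeqIn_right d _ _ _ ι (LinearMap.range a.mulVecLin).mkQ ?_ ?_ (Submodule.mkQ_surjective _) hC
    (hasSeqIn_pow hR m)
  · rw [← LinearMap.ker_eq_bot]
    exact Submodule.ker_liftQ_eq_bot _ _ _ hge
  · rw [LinearMap.exact_iff, Submodule.ker_mkQ, Submodule.range_liftQ]

/-- A complex of free modules of length at most the depth, exact on the punctured spectrum, is exact. -/
theorem exact_of_exact_localization (e : ℕ) (he : 1 ≤ e) (n : ℕ → ℕ)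
    (A : (i : ℕ) → Matrix (Fin (n i)) (Fin (n (i + 1))) R)
    (hA : ∀ i, i + 2 ≤ e → A i * A (i + 1) = 0)
    (rs : List R) (hlen : rs.length = e) (hmem : ∀ x ∈ rs, x ∈ maximalIdeal R)
    (hreg : RingTheory.Sequence.IsRegular R rs)
    (hloc : ∀ (p : Ideal R) [p.IsPrime], p ≠ maximalIdeal R →
      LinearMap.ker ((A (e - 1)).map (algebraMap R (Localization.AtPrime p))).mulVecLin = ⊥ ∧
        ∀ i, i + 2 ≤ e →
          LinearMap.ker ((A i).map (algebraMap R (Localization.AtPrime p))).mulVecLin =
            LinearMap.range ((A (i + 1)).map (algebraMap R (Localization.AtPrime p))).mulVecLin) :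
    LinearMap.ker (A (e - 1)).mulVecLin = ⊥ ∧
      ∀ i, i + 2 ≤ e → LinearMap.ker (A i).mulVecLin = LinearMap.range (A (i + 1)).mulVecLin := by
  have hR : HasSeqIn (maximalIdeal R) R e := ⟨rs, hlen, hmem, hreg.toIsWeaklyRegular⟩
  let Z : Matrix (Fin (n (e - 1 + 1))) (Fin 0) R := 0
  have hz : ∀ {O : Type u} [CommRing O] (g : R →+* O), (Z.map g).mulVecLin = 0 := fun g => by
    ext v i; simp [Z]
  have hz' : Z.mulVecLin = 0 := by ext v i; simp [Z]
  have h0 := step (A (e - 1)) Z (Matrix.mul_zero _)
    (fun p _ hp => by rw [(hloc p hp).1, hz, LinearMap.range_zero]) (d := e - 1)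
    (HasSeqIn.congr (Submodule.quotEquivOfEqBot _ (by rw [hz', LinearMap.range_zero])).symm
      ((hasSeqIn_pow hR _).mono (show e - 1 + 1 ≤ e by omega)))
    (hR.mono (by omega))
  have key : ∀ d i, i + 1 + d = e → HasSeqIn (maximalIdeal R) ((Fin (n i) → R) ⧸ LinearMap.range (A i).mulVecLin) i := by
    intro d
    induction d with
    | zero =>
      intro i hi
      obtain rfl : i = e - 1 := by omega
      exact h0.2
    | succ d ih =>
      intro i hi
      exact (step (A i) (A (i + 1)) (hA i (by omega)) (fun p _ hp => (hloc p hp).2 i (by omega))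
        (ih (i + 1) (by omega)) (hR.mono (by omega))).2
  refine ⟨by rw [h0.1, hz', LinearMap.range_zero], fun i hi => ?_⟩
  exact (step (A i) (A (i + 1)) (hA i hi) (fun p _ hp => (hloc p hp).2 i hi)
    (key (e - (i + 2)) (i + 1) (by omega)) (hR.mono (by omega))).1

end BEStepLib
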